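import Mathlib
import Cfsg.Agent.CLAS.UniCongr
import Cfsg.Agent.CLAS.UniGen
import Cfsg.Agent.KSG.SpUUnitary
import Cfsg.Agent.SPOR.F4

/-!
A model `W` of the Sylow 2-subgroup of `U₅(2)`: unitriangular matrices preserving the antidiagonal
hermitian form.
-/

set_option autoImplicit false

namespace CL.U52

open Cfsg Matrix CL.F4

/-- conjugation -/
def bar : F4 → F4
  | .o => .o | .l => .l | .w => .v | .v => .w

theorem bar_add : ∀ x y : F4, bar (x + y) = bar x + bar y := by decide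
theorem bar_mul : ∀ x y : F4, bar (x * y) = bar x * bar y := by decide
theorem bar_neg : ∀ x : F4, bar (-x) = -bar x := by decide
theorem bar_bar : ∀ x : F4, bar (bar x) = x := by decide
theorem bar_zero : bar 0 = 0 := rfl
theorem bar_one : bar 1 = 1 := rfl
theorem bar_eq : ∀ x : F4, x ^ 2 = bar x := by decide

instance (priority := high) decAll (P : F4 → Prop) [DecidablePred P] : Decidable (∀ x, P x) :=
  decidable_of_iff (P .o ∧ P .l ∧ P .w ∧ P .v)
    ⟨fun h x => by cases x; exacts [h.1, h.2.1, h.2.2.1, h.2.2.2], fun h => ⟨h _, h _, h _, h _⟩⟩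

instance (priority := high) decEx (P : F4 → Prop) [DecidablePred P] : Decidable (∃ x, P x) :=
  decidable_of_iff (P .o ∨ P .l ∨ P .w ∨ P .v)
    ⟨fun h => by rcases h with h | h | h | h <;> exact ⟨_, h⟩, fun ⟨x, h⟩ => by
      cases x
      exacts [Or.inl h, Or.inr (Or.inl h), Or.inr (Or.inr (Or.inl h)), Or.inr (Or.inr (Or.inr h))]⟩

/-- the model -/
@[ext] structure W where
  (a b p r c s : F4)
  hc : c + bar c + b * bar b = 0
  hs : s + bar s + a * bar r + bar a * r + p * bar p = 0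

namespace W

instance : DecidableEq W := fun x y =>
  decidable_of_iff (x.a = y.a ∧ x.b = y.b ∧ x.p = y.p ∧ x.r = y.r ∧ x.c = y.c ∧ x.s = y.s)
    ⟨fun h => W.ext h.1 h.2.1 h.2.2.1 h.2.2.2.1 h.2.2.2.2.1 h.2.2.2.2.2, fun h => by simp [h]⟩

instance : One W := ⟨⟨0, 0, 0, 0, 0, 0, by decide, by decide⟩⟩

instance : Mul W := ⟨fun x y => ⟨x.a + y.a, x.b + y.b, x.p + x.a * y.b + y.p,
  x.r + x.a * y.c + -(x.p * bar y.b) + y.r, x.c + -(x.b * bar y.b) + y.c,
  x.s + y.s + -(x.a * (bar y.r + bar y.a * y.c + y.b * bar y.p)) + x.p * (bar y.a * bar y.b + -bar y.p) +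
    -(x.r * bar y.a), by
    simp only [bar_add, bar_mul, bar_neg, bar_bar]
    linear_combination x.hc + y.hc, by
    simp only [bar_add, bar_mul, bar_neg, bar_bar]
    linear_combination x.hs + y.hs + (x.a * bar x.a) * y.hc⟩⟩

instance : Inv W := ⟨fun x => ⟨-x.a, -x.b, x.a * x.b + -x.p, -(x.r + x.a * bar x.c + bar x.b * x.p),
  bar x.c, bar x.s, by
    simp only [bar_neg, bar_bar]
    linear_combination x.hc, by
    simp only [bar_add, bar_mul, bar_neg, bar_bar]
    linear_combination x.hs + (x.a * bar x.a) * x.hc⟩⟩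

/-- the matrix -/
def mat (x : W) : Matrix (Fin 5) (Fin 5) F4 :=
  !![1, x.a, x.p, x.r, x.s;
     0, 1, x.b, x.c, -(bar x.r + bar x.a * x.c + x.b * bar x.p);
     0, 0, 1, -bar x.b, bar x.a * bar x.b + -bar x.p;
     0, 0, 0, 1, -bar x.a;
     0, 0, 0, 0, 1]

theorem mul_a (x y : W) : (x * y).a = x.a + y.a := rfl
theorem mul_b (x y : W) : (x * y).b = x.b + y.b := rfl
theorem mul_p (x y : W) : (x * y).p = x.p + x.a * y.b + y.p := rfl
theorem mul_r (x y : W) : (x * y).r = x.r + x.a * y.c + -(x.p * bar y.b) + y.r := rfl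
theorem mul_c (x y : W) : (x * y).c = x.c + -(x.b * bar y.b) + y.c := rfl
theorem mul_s (x y : W) : (x * y).s = x.s + y.s + -(x.a * (bar y.r + bar y.a * y.c + y.b * bar y.p)) +
    x.p * (bar y.a * bar y.b + -bar y.p) + -(x.r * bar y.a) := rfl

theorem mat_mul (x y : W) : mat (x * y) = mat x * mat y := by
  ext i j
  fin_cases i <;> fin_cases j <;>
    simp [mat, Matrix.mul_apply, Fin.sum_univ_succ, mul_a, mul_b, mul_p, mul_r, mul_c, mul_s, bar_add,
      bar_mul, bar_neg, bar_bar]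
  all_goals first | ring1 | linear_combination (-bar x.a) * y.hc

theorem mat_inj : Function.Injective mat := fun x y h =>
  W.ext (congrFun (congrFun h 0) 1) (congrFun (congrFun h 1) 2) (congrFun (congrFun h 0) 2)
    (congrFun (congrFun h 0) 3) (congrFun (congrFun h 1) 3) (congrFun (congrFun h 0) 4)

instance (priority := high) decAll (P : W → Prop) [DecidablePred P] : Decidable (∀ x, P x) :=
  decidable_of_iff (∀ b c (hc : c + bar c + b * bar b = 0) a p r s
      (hs : s + bar s + a * bar r + bar a * r + p * bar p = 0), P ⟨a, b, p, r, c, s, hc, hs⟩)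
    ⟨fun h x => h _ _ x.hc _ _ _ _ x.hs, fun h _ _ _ _ _ _ _ _ => h _⟩

instance (priority := high) decEx (P : W → Prop) [DecidablePred P] : Decidable (∃ x, P x) :=
  decidable_of_iff (∃ b c, ∃ hc : c + bar c + b * bar b = 0, ∃ a p r s,
      ∃ hs : s + bar s + a * bar r + bar a * r + p * bar p = 0, P ⟨a, b, p, r, c, s, hc, hs⟩)
    ⟨fun ⟨_, _, _, _, _, _, _, _, h⟩ => ⟨_, h⟩, fun ⟨x, h⟩ => ⟨_, _, x.hc, _, _, _, _, x.hs, h⟩⟩

instance : Group W := Group.ofLeftAxioms
  (fun x y z => mat_inj (by simp only [mat_mul, Matrix.mul_assoc])) (by decide +kernel)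
  (by decide +kernel)

/-- coordinates -/
def eqv : {t : F4 × F4 × F4 × F4 × F4 × F4 // t.2.2.2.2.1 + bar t.2.2.2.2.1 + t.2.1 * bar t.2.1 = 0 ∧
    t.2.2.2.2.2 + bar t.2.2.2.2.2 + t.1 * bar t.2.2.2.1 + bar t.1 * t.2.2.2.1 +
      t.2.2.1 * bar t.2.2.1 = 0} ≃ W where
  toFun t := ⟨t.1.1, t.1.2.1, t.1.2.2.1, t.1.2.2.2.1, t.1.2.2.2.2.1, t.1.2.2.2.2.2, t.2.1, t.2.2⟩
  invFun x := ⟨(x.a, x.b, x.p, x.r, x.c, x.s), x.hc, x.hs⟩
  left_inv _ := rfl
  right_inv _ := rfl

instance : Fintype W := Fintype.ofEquiv _ eqv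

theorem card_W : Nat.card W = 1024 := by
  rw [Nat.card_eq_fintype_card]; decide +kernel

theorem card_sub (H : Subgroup W) (P : W → Prop) [DecidablePred P] (h : ∀ x, x ∈ H ↔ P x) :
    Nat.card H = (Finset.univ.filter P).card := by
  rw [← Fintype.card_subtype, ← Nat.card_eq_fintype_card]
  exact Nat.card_congr (Equiv.subtypeEquivRight h)

/-- base change to an orthonormal basis -/
def mP : Matrix (Fin 5) (Fin 5) F4 :=
  !![1, 0, 0, 0, w; 0, 1, 0, w, 0; 0, 0, 1, 0, 0; 0, 1, 0, v, 0; 1, 0, 0, 0, v]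

/-- its inverse -/
def mPi : Matrix (Fin 5) (Fin 5) F4 :=
  !![v, 0, 0, 0, w; 0, v, 0, w, 0; 0, 0, 1, 0, 0; 0, 1, 0, 1, 0; 1, 0, 0, 0, 1]

/-- the Gram matrix -/
def mJ : Matrix (Fin 5) (Fin 5) F4 :=
  !![0, 0, 0, 0, 1; 0, 0, 0, 1, 0; 0, 0, 1, 0, 0; 0, 1, 0, 0, 0; 1, 0, 0, 0, 0]

theorem h4 : Fintype.card F4 = 2 ^ 2 := rfl

theorem P_Pi : mP * mPi = 1 := by decide +kernel
theorem Pi_P : mPi * mP = 1 := by decide +kernel

theorem ct_P : SpU.ct h4 mP * mP = mJ := by
  rw [SpU.ct_eq']; simp only [bar_eq]; decide +kernel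

theorem ct_Pi : SpU.ct h4 mPi * mJ * mPi = 1 := by
  rw [SpU.ct_eq']; simp only [bar_eq]; decide +kernel

theorem ct_mat (x : W) : SpU.ct h4 (mat x) * mJ * mat x = mJ := by
  rw [SpU.ct_eq']
  ext i j
  fin_cases i <;> fin_cases j <;>
    simp [mat, mJ, Matrix.mul_apply, Fin.sum_univ_succ, bar_eq, bar_add, bar_mul, bar_neg, bar_bar,
      bar_zero, bar_one]
  all_goals first | ring1 | linear_combination x.hc | linear_combination (-bar x.a) * x.hc |
    linear_combination (-x.a) * x.hc | linear_combination x.hs + (x.a * bar x.a) * x.hc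

theorem det_mat (x : W) : (mat x).det = 1 := by
  rw [Matrix.det_of_upperTriangular]
  · simp [mat, Fin.prod_univ_succ]
  · intro i j hij
    fin_cases i <;> fin_cases j <;> simp_all [mat]

/-- the embedding into `SU₅(2)` -/
def toSU : W →* SU 5 F4 2 := MonoidHom.mk' (fun x => SpU.mkSU h4 (mP * mat x * mPi) (by
    rw [SpU.ct_mul, SpU.ct_mul]
    calc _ = SpU.ct h4 mPi * (SpU.ct h4 (mat x) * (SpU.ct h4 mP * mP) * mat x) * mPi := by
          simp only [Matrix.mul_assoc]
      _ = 1 := by rw [ct_P, ct_mat, ct_Pi]) (by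
    rw [det_mul, det_mul, det_mat, mul_one, ← det_mul, P_Pi, det_one]))
  fun x y => Subtype.ext (Subtype.ext (by
    change mP * mat (x * y) * mPi = mP * mat x * mPi * (mP * mat y * mPi)
    rw [mat_mul]
    calc _ = mP * mat x * (mPi * mP) * mat y * mPi := by rw [Pi_P]; simp only [Matrix.mul_assoc, one_mul]
      _ = _ := by simp only [Matrix.mul_assoc]))

/-- the embedding into `U₅(2)` -/
def toPSU : W →* PSU 5 F4 2 := (QuotientGroup.mk' _).comp toSU

theorem toPSU_inj : Function.Injective toPSU := by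
  rw [injective_iff_map_eq_one]
  intro x hx
  obtain ⟨c, hc⟩ := (Uni.psu_mk_eq_one_iff h4 (by norm_num)).1 hx
  change mP * mat x * mPi = _ at hc
  have h1 : mat x = c • 1 := by
    calc mat x = (mPi * mP) * mat x * (mPi * mP) := by rw [Pi_P, one_mul, mul_one]
      _ = mPi * (mP * mat x * mPi) * mP := by simp only [Matrix.mul_assoc]
      _ = _ := by rw [hc, Matrix.mul_smul, Matrix.smul_mul, mul_one, Pi_P]
  have h2 : c = 1 := by simpa [mat] using (congrFun (congrFun h1 0) 0).symm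
  refine mat_inj (h1.trans ?_)
  rw [h2, one_smul]
  decide +kernel

end W

theorem card_PSU5 : Nat.card (PSU 5 F4 2) = 13685760 := by
  have := Uni.card_PSU W.h4 (n := 5) (by norm_num)
  have h : Uni.guOrder 2 5 = 41057280 := by decide
  rw [h] at this
  norm_num at this
  omega

/-- a group with Sylow 2-subgroup of type `U₅(2)` contains the model -/
theorem exists_emb {G : Type*} [Group G] {F : Type*} [Field F] [Fintype F] (hF : Fintype.card F = 4)
    (S : Subgroup G) (P : Sylow 2 (PSU 5 F 2)) (hS : Nonempty (S ≃* (P : Subgroup (PSU 5 F 2)))) :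
    ∃ ι : W →* G, Function.Injective ι ∧ ι.range = S := by
  obtain ⟨e⟩ := hS
  obtain ⟨φ⟩ := Uni.nonempty_psuCongr (F := F4) (K := F) hF.symm 5 2
  have : Fact (Nat.Prime 2) := ⟨Nat.prime_two⟩
  have hc : Nat.card (PSU 5 F 2) = 13685760 := by rw [← card_PSU5]; exact (Nat.card_congr φ.toEquiv).symm
  have : Finite (PSU 5 F 2) := Nat.finite_of_card_ne_zero (by rw [hc]; norm_num)
  let ψ := φ.toMonoidHom.comp W.toPSU
  have hψ : Function.Injective ψ := φ.injective.comp W.toPSU_inj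
  have hr : Nat.card ψ.range = 2 ^ (Nat.card (PSU 5 F 2)).factorization 2 := by
    rw [← Nat.card_congr (MonoidHom.ofInjective hψ).toEquiv, W.card_W, hc,
      show 13685760 = 2 ^ 10 * 13365 by norm_num, Nat.factorization_mul (by norm_num) (by norm_num),
      Nat.Prime.factorization_pow Nat.prime_two, Finsupp.add_apply, Finsupp.single_eq_same,
      Nat.factorization_eq_zero_of_not_dvd (by norm_num)]
    norm_num
  let T : Sylow 2 (PSU 5 F 2) := Sylow.ofCard ψ.range hr
  let f : W ≃* S := ((MonoidHom.ofInjective hψ).trans (T.equiv P)).trans e.symm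
  refine ⟨S.subtype.comp f.toMonoidHom, S.subtype_injective.comp f.injective, ?_⟩
  rw [MonoidHom.range_comp, MonoidHom.range_eq_top.2 f.surjective, ← MonoidHom.range_eq_map,
    Subgroup.range_subtype]

end CL.U52
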