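import Mathlib
import Cfsg.Agent.SYL.U52.Mod

/-!
Finite facts on the model `W`.
-/

set_option autoImplicit false

namespace CL.U52

open CL.F4

namespace W

/-- the central involution -/
def z0 : W := ⟨0, 0, 0, 0, 0, 1, by decide, by decide⟩

/-- a second transvection -/
def t0 : W := ⟨0, 0, 0, 0, 1, 0, by decide, by decide⟩

/-- `2^(1+6)` -/
def Q0 : Subgroup W where
  carrier := {x | x.b = 0 ∧ x.c = 0}
  one_mem' := ⟨rfl, rfl⟩
  mul_mem' := fun {x y} hx hy => by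
    simp only [Set.mem_setOf_eq, mul_b, mul_c, hx.1, hx.2, hy.1, hy.2]; decide
  inv_mem' := fun {x} hx => by
    change -x.b = 0 ∧ bar x.c = 0
    rw [hx.1, hx.2]; decide

/-- `2^(4+4)` -/
def R0 : Subgroup W where
  carrier := {x | x.a = 0}
  one_mem' := rfl
  mul_mem' := fun {x y} hx hy => by
    change x.a + y.a = 0
    rw [hx, hy]; decide
  inv_mem' := fun {x} hx => by
    change -x.a = 0
    rw [hx]; decide

/-- `2^3 × Q₈` -/
def B0 : Subgroup W where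
  carrier := {x | x.a = 0 ∧ x.b = 0}
  one_mem' := ⟨rfl, rfl⟩
  mul_mem' := fun {x y} hx hy => by
    simp only [Set.mem_setOf_eq, mul_a, mul_b, hx.1, hx.2, hy.1, hy.2]; decide
  inv_mem' := fun {x} hx => by
    change -x.a = 0 ∧ -x.b = 0
    rw [hx.1, hx.2]; decide

/-- `2^4` -/
def E0 : Subgroup W where
  carrier := {x | x.a = 0 ∧ x.b = 0 ∧ x.p = 0}
  one_mem' := ⟨rfl, rfl, rfl⟩
  mul_mem' := fun {x y} hx hy => by
    simp only [Set.mem_setOf_eq, mul_a, mul_b, mul_p, hx.1, hx.2.1, hx.2.2, hy.1, hy.2.1, hy.2.2]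
    decide
  inv_mem' := fun {x} hx => by
    change -x.a = 0 ∧ -x.b = 0 ∧ x.a * x.b + -x.p = 0
    rw [hx.1, hx.2.1, hx.2.2]; decide

/-- the five transvections -/
def D0 : Set W := {x | (x.a = 0 ∧ x.b = 0 ∧ x.p = 0) ∧ x ≠ 1 ∧ x.s * x.c = x.r * bar x.r}

instance (x : W) : Decidable (x ∈ Q0) := inferInstanceAs (Decidable (x.b = 0 ∧ x.c = 0))
instance (x : W) : Decidable (x ∈ R0) := inferInstanceAs (Decidable (x.a = 0))
instance (x : W) : Decidable (x ∈ B0) := inferInstanceAs (Decidable (x.a = 0 ∧ x.b = 0))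
instance (x : W) : Decidable (x ∈ E0) := inferInstanceAs (Decidable (x.a = 0 ∧ x.b = 0 ∧ x.p = 0))
instance (x : W) : Decidable (x ∈ D0) :=
  inferInstanceAs (Decidable ((x.a = 0 ∧ x.b = 0 ∧ x.p = 0) ∧ x ≠ 1 ∧ x.s * x.c = x.r * bar x.r))

theorem card_Q : Nat.card Q0 = 128 := by
  rw [card_sub Q0 (· ∈ Q0) fun _ => Iff.rfl]; decide +kernel
theorem card_R : Nat.card R0 = 256 := by
  rw [card_sub R0 (· ∈ R0) fun _ => Iff.rfl]; decide +kernel
theorem card_B : Nat.card B0 = 64 := by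
  rw [card_sub B0 (· ∈ B0) fun _ => Iff.rfl]; decide +kernel
theorem card_E : Nat.card E0 = 16 := by
  rw [card_sub E0 (· ∈ E0) fun _ => Iff.rfl]; decide +kernel

/-- elements of `Q0` -/
def qq (a p r : F4) (e : Bool) : W :=
  ⟨a, 0, p, r, 0, w * (a * bar r + bar a * r + p * bar p) + (if e then 1 else 0), by decide, by
    revert a p r e; decide +kernel⟩

/-- elements of `E0` -/
def ee (r : F4) (e f : Bool) : W :=
  ⟨0, 0, 0, r, if e then 1 else 0, if f then 1 else 0, by revert e; decide, by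
    revert r f; decide⟩

/-- the complement `Q₈` -/
def xb (b : F4) (e : Bool) : W :=
  ⟨0, b, 0, 0, w * (b * bar b) + (if e then 1 else 0), 0, by revert b e; decide, by decide⟩

theorem qq_mem (a p r : F4) (e : Bool) : qq a p r e ∈ Q0 := ⟨rfl, rfl⟩
theorem ee_mem (r : F4) (e f : Bool) : ee r e f ∈ E0 := ⟨rfl, rfl, rfl⟩

theorem exists_qq : ∀ x : W, x ∈ Q0 → ∃ e, x = qq x.a x.p x.r e := by decide +kernel
theorem exists_ee : ∀ x : W, x ∈ E0 → ∃ e f, x = ee x.r e f := by decide +kernel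
theorem exists_xb : ∀ x : W, ∃ e, x * (xb x.b e)⁻¹ ∈ Q0 := by decide +kernel

theorem allQ {P : W → Prop} (h : ∀ a p r e, P (qq a p r e)) (x : W) (hx : x ∈ Q0) : P x := by
  obtain ⟨e, he⟩ := exists_qq x hx
  exact he ▸ h _ _ _ _

theorem allE {P : W → Prop} (h : ∀ r e f, P (ee r e f)) (x : W) (hx : x ∈ E0) : P x := by
  obtain ⟨e, f, he⟩ := exists_ee x hx
  exact he ▸ h _ _ _

theorem zc : ∀ x : W, x * z0 = z0 * x := by decide +kernel
theorem cQ' : ∀ x : W, x * qq 1 0 0 false = qq 1 0 0 false * x → x * qq w 0 0 false = qq w 0 0 false * x →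
    x * qq 0 1 0 false = qq 0 1 0 false * x → x * qq 0 w 0 false = qq 0 w 0 false * x →
    x * qq 0 0 1 false = qq 0 0 1 false * x → x * qq 0 0 w false = qq 0 0 w false * x →
    x = 1 ∨ x = z0 := by decide +kernel
theorem commQ' : ∀ a p r e a' p' r' e', qq a p r e * qq a' p' r' e' = qq a' p' r' e' * qq a p r e ∨
    qq a p r e * qq a' p' r' e' = qq a' p' r' e' * qq a p r e * z0 := by decide +kernel
theorem sqQ : ∀ x : W, x ∈ Q0 → x * x = 1 ∨ x * x = z0 := by decide +kernel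
theorem sq1 : ∀ x : W, x * x = 1 → x ∈ Q0 ∨ x ∈ E0 := by decide +kernel
theorem sq2 : ∀ x : W, x * x = 1 ∨ x * x = z0 → x ∈ Q0 ∨ x ∈ B0 := by decide +kernel
theorem cE1 : ∀ x : W, x * t0 = t0 * x → x ∈ R0 := by decide +kernel
theorem cE2 : ∀ x : W, x ∈ R0 → ∀ r e f, x * ee r e f = ee r e f * x := by decide +kernel
theorem nE : ∀ x : W, ∀ r e f, x * ee r e f * x⁻¹ ∈ E0 := by decide +kernel
theorem invR : ∀ x : W, x ∈ R0 → x * x = 1 → x ∈ E0 := by decide +kernel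
theorem sqE : ∀ x : W, x ∈ E0 → x * x = 1 := by decide +kernel
theorem sqR : ∀ x : W, x ∈ R0 → x * x = 1 ∨ x * x ∈ D0 := by decide +kernel
theorem sqB : ∀ x : W, x ∈ R0 → x * x = 1 ∨ x * x = z0 → x ∈ B0 := by decide +kernel
theorem sqB' : ∀ x : W, x ∈ B0 → x * x = 1 ∨ x * x = z0 := by decide +kernel
theorem zsq : qq 0 1 0 false * qq 0 1 0 false = z0 := by decide +kernel
theorem cU' : ∀ a p r e, qq a p r e * qq a p r e = 1 → qq a p r e ∉ E0 → ∀ a' p' r' b f,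
    qq a' p' r' false * xb b f * qq a p r e = qq a p r e * (qq a' p' r' false * xb b f) →
    xb b f = 1 := by decide +kernel
theorem w10 : ∀ a p r e, qq a p r e * qq a p r e = 1 → qq a p r e ∉ E0 → ∃ a' p' r',
    qq a' p' r' false * qq a' p' r' false = 1 ∧
    qq a' p' r' false * qq a p r e = qq a p r e * qq a' p' r' false ∧
    ee a false false * qq a p r e = qq a p r e * ee a false false ∧
    ee a false false * qq a' p' r' false = qq a' p' r' false * ee a false false * z0 := by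
  decide +kernel
theorem DQ : ∀ x : W, x ∈ D0 → x ∈ Q0 → x = z0 := by decide +kernel
theorem Dconj : ∀ x : W, x ∈ D0 → x ≠ z0 →
    (∃ a, qq a 0 0 false * t0 * (qq a 0 0 false)⁻¹ = x) ∧ x * t0 ∈ Q0 := by decide +kernel
theorem Egen : ∀ r e f, ee r e f = 1 ∨ ee r e f ∈ D0 ∨ ∃ r' e' f', ee r' e' f' ∈ D0 ∧
    ee r' e' f' * ee r e f ∈ D0 := by decide +kernel
theorem Duniq : ∀ r e f, ee r e f ≠ 1 → ∀ r' e' f', ee r' e' f' ∈ D0 → ee r' e' f' * ee r e f ∈ D0 →
    ∀ r'' e'' f'', ee r'' e'' f'' ∈ D0 → ee r'' e'' f'' * ee r e f ∈ D0 →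
    ee r'' e'' f'' = ee r' e' f' ∨ ee r'' e'' f'' = ee r' e' f' * ee r e f := by decide +kernel
theorem EQ : ∀ x : W, x ∈ E0 → (x ∉ Q0 ↔ (x ∈ D0 ∧ x ≠ z0) ∨ (x * z0 ∈ D0 ∧ x ≠ 1)) := by
  decide +kernel
theorem BQ : ∀ x : W, x ∈ B0 → x ∈ Q0 ∨ x * t0 ∈ Q0 := by decide +kernel
theorem w13a : ∀ x : W, ∀ p, x * qq 0 p 0 false * x⁻¹ * (qq 0 p 0 false)⁻¹ ∈ E0 ∧
    x * qq 0 p 0 false * x⁻¹ * (qq 0 p 0 false)⁻¹ ∈ Q0 := by decide +kernel
theorem w13b : ∀ x : W, ∀ r e f, x * ee r e f * x⁻¹ * (ee r e f)⁻¹ ∈ Q0 := by decide +kernel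
theorem BE : ∀ x : W, x ∈ B0 → (qq 0 x.p 0 false)⁻¹ * x ∈ E0 := by decide +kernel
theorem w14 : ∀ a p r, qq a p r false * qq a p r false ≠ 1 → ∀ a' p' r',
    qq a' p' r' false * qq a' p' r' false ≠ 1 →
    qq a p r false * qq a' p' r' false ≠ qq a' p' r' false * qq a p r false → ∃ b f,
    let x := qq a p r false
    let y := qq a' p' r' false
    let u := xb b f * x * (xb b f)⁻¹
    (u * x ≠ x * u ∨ u * y ≠ y * u) ∧ u ≠ x ∧ u ≠ x * z0 ∧ u ≠ y ∧ u ≠ y * z0 ∧ u ≠ x * y ∧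
      u ≠ x * y * z0 := by decide +kernel
theorem w15 : ∀ x : W, x ∉ Q0 → x * t0 ∈ Q0 ∨ x * x * t0 ∈ Q0 := by decide +kernel
theorem cE0 : ∀ x : W, x * ee 1 false false = ee 1 false false * x →
    x * ee w false false = ee w false false * x → x ∈ R0 := by decide +kernel
theorem k1 : ∀ r e f e' f', ee r e f ∈ D0 ∧ ee r e f ≠ z0 → ee r e' f' ∈ D0 ∧ ee r e' f' ≠ z0 →
    ee r e f = ee r e' f' := by decide +kernel
theorem exists_qq' : ∀ x : W, x ∈ Q0 → x = qq x.a x.p x.r false ∨ x = qq x.a x.p x.r false * z0 := by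
  decide +kernel
theorem zz : z0 * z0 = 1 := by decide +kernel
theorem z_ne : z0 ≠ 1 := by decide +kernel
theorem zD : z0 ∈ D0 := by decide +kernel
theorem tD : t0 ∈ D0 := by decide +kernel
theorem tz : t0 ≠ z0 := by decide +kernel
theorem zQ : z0 ∈ Q0 := by decide +kernel
theorem nab : qq 1 0 0 false * qq 0 0 w false ≠ qq 0 0 w false * qq 1 0 0 false := by decide +kernel
theorem uu : qq 1 0 0 false * qq 1 0 0 false = 1 ∧ qq 1 0 0 false ∉ E0 := by decide +kernel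
theorem ee_sq : ∀ r, ee r false false * ee r false false = 1 ∧ ee r false false ∈ Q0 := by
  decide +kernel
theorem k2 : ∀ p r e p' r' e', p = p' ↔ qq 0 p r e * (qq 0 p' r' e')⁻¹ ∈ E0 := by decide +kernel
theorem nQ : ∀ b f a p r e, xb b f * qq a p r e * (xb b f)⁻¹ ∈ Q0 := by decide +kernel

end W

end CL.U52
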