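import Mathlib
import Cfsg.Agent.SYL.U52.Fct
import Cfsg.Agent.SPOR.ES2
import Cfsg.Agent.TECH.SylIn

/-!
The facts on a Sylow 2-subgroup of type `U₅(2)` inside an ambient group.
-/

set_option autoImplicit false

namespace CL.U52

open CL.F4 CL.MSS CL.LX Subgroup

variable {G : Type*} [Group G]

/-- the structure of a Sylow 2-subgroup `S` of type `U₅(2)` -/
structure U5 (S Q R E B : Subgroup G) (D : Set G) (z t : G) : Prop where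
  syl : SylIn 2 S ⊤
  es : ES Q z
  QS : Q ≤ S
  RS : R ≤ S
  BR : B ≤ R
  EB : E ≤ B
  cardQ : Nat.card Q = 128
  cardR : Nat.card R = 256
  cardB : Nat.card B = 64
  cardE : Nat.card E = 16
  zc : ∀ x ∈ S, x * z = z * x
  cQ : ∀ x ∈ S, (∀ y ∈ Q, x * y = y * x) → x = 1 ∨ x = z
  nQ : ∀ s ∈ S, ∀ x ∈ Q, s * x * s⁻¹ ∈ Q
  nE : ∀ s ∈ S, ∀ x ∈ E, s * x * s⁻¹ ∈ E
  sq1 : ∀ x ∈ S, x * x = 1 → x ∈ Q ∨ x ∈ E
  sq2 : ∀ x ∈ S, x * x = 1 ∨ x * x = z → x ∈ Q ∨ x ∈ B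
  cE1 : ∀ x ∈ S, x * t = t * x → x ∈ R
  cE2 : ∀ x ∈ R, ∀ e ∈ E, x * e = e * x
  invR : ∀ x ∈ R, x * x = 1 → x ∈ E
  sqE : ∀ x ∈ E, x * x = 1
  sqR : ∀ x ∈ R, x * x = 1 ∨ x * x ∈ D
  sqB : ∀ x ∈ R, x * x = 1 ∨ x * x = z → x ∈ B
  sqB' : ∀ x ∈ B, x * x = 1 ∨ x * x = z
  zsq : ∃ x ∈ R, x * x = z
  cU : ∀ u ∈ S, u * u = 1 → u ∉ E → ∀ x ∈ S, x * u = u * x → x ∈ Q
  w10 : ∀ u ∈ S, u * u = 1 → u ∉ E → ∃ x ∈ S, ∃ y ∈ S, x * x = 1 ∧ y * y = 1 ∧ x * u = u * x ∧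
    y * u = u * y ∧ x * y = y * x * z
  exU : ∃ u ∈ S, u * u = 1 ∧ u ∉ E
  zD : z ∈ D
  tD : t ∈ D
  tz : t ≠ z
  DE : ∀ d ∈ D, d ∈ E
  D1 : ∀ d ∈ D, d ≠ 1
  DQ : ∀ d ∈ D, d ∈ Q → d = z
  Dconj : ∀ d ∈ D, d ≠ z → (∃ q ∈ Q, q * t * q⁻¹ = d) ∧ d * t ∈ Q
  Egen : ∀ e ∈ E, e = 1 ∨ e ∈ D ∨ ∃ d ∈ D, d * e ∈ D
  Duniq : ∀ e ∈ E, e ≠ 1 → ∀ d ∈ D, d * e ∈ D → ∀ d' ∈ D, d' * e ∈ D → d' = d ∨ d' = d * e
  EQ : ∀ e ∈ E, (e ∉ Q ↔ (e ∈ D ∧ e ≠ z) ∨ (e * z ∈ D ∧ e ≠ 1))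
  BB : ∀ x ∈ B, ∀ y ∈ B, x * y = y * x ∨ x * y = y * x * z
  w13 : ∀ s ∈ S, ∀ x ∈ B, s * x * s⁻¹ * x⁻¹ ∈ E ⊓ Q
  w14 : ∀ x ∈ Q, x * x ≠ 1 → ∀ y ∈ Q, y * y ≠ 1 → x * y ≠ y * x → ∃ s ∈ S,
    (s * x * s⁻¹ * x ≠ x * (s * x * s⁻¹) ∨ s * x * s⁻¹ * y ≠ y * (s * x * s⁻¹)) ∧
      ∀ k ∈ ({x, y, x * y} : Set G), s * x * s⁻¹ ≠ k ∧ s * x * s⁻¹ ≠ k * z
  w15 : ∀ x ∈ S, x ∉ Q → x * t ∈ Q ∨ x * x * t ∈ Q
  cE0 : ∀ x ∈ S, (∀ e ∈ E ⊓ Q, x * e = e * x) → x ∈ R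
  k1 : ∃ κ : G → F4, ∀ x ∈ D, x ≠ z → ∀ y ∈ D, y ≠ z → κ x = κ y → x = y
  k2 : ∃ κ : G → F4, ∀ x ∈ Q ⊓ R, ∀ y ∈ Q ⊓ R, (κ x = κ y ↔ x * y⁻¹ ∈ E)

namespace W

theorem commQ (x : W) (hx : x ∈ Q0) (y : W) (hy : y ∈ Q0) : x * y = y * x ∨ x * y = y * x * z0 := by
  revert y
  refine allQ (P := fun x => ∀ y, y ∈ Q0 → x * y = y * x ∨ x * y = y * x * z0) (fun a p r e => ?_) x hx
  exact allQ (commQ' a p r e)

theorem cE2' (x : W) (hx : x ∈ R0) (e : W) (he : e ∈ E0) : x * e = e * x :=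
  allE (P := fun e => x * e = e * x) (cE2 x hx) e he

theorem nE' (x e : W) (he : e ∈ E0) : x * e * x⁻¹ ∈ E0 :=
  allE (P := fun e => x * e * x⁻¹ ∈ E0) (nE x) e he

theorem nQ' (s x : W) (hx : x ∈ Q0) : s * x * s⁻¹ ∈ Q0 := by
  obtain ⟨e, he⟩ := exists_xb s
  have h := allQ (P := fun x => xb s.b e * x * (xb s.b e)⁻¹ ∈ Q0) (nQ s.b e) x hx
  have := Q0.mul_mem (Q0.mul_mem he h) (Q0.inv_mem he)
  convert this using 1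
  group

theorem cU (u : W) (h1 : u * u = 1) (h2 : u ∉ E0) (x : W) (h : x * u = u * x) : x ∈ Q0 := by
  obtain ⟨e, he⟩ := exists_qq u ((sq1 u h1).resolve_right h2)
  obtain ⟨f, hf⟩ := exists_xb x
  have k : xb x.b f = 1 := by
    refine cU' u.a u.p u.r e (he ▸ h1) (he ▸ h2) (x * (xb x.b f)⁻¹).a (x * (xb x.b f)⁻¹).p
      (x * (xb x.b f)⁻¹).r x.b f ?_
    rw [← he]
    rcases exists_qq' _ hf with k | k
    · rw [← k, inv_mul_cancel_right, h]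
    · rw [← mul_inv_eq_iff_eq_mul] at k
      have e1 : x * (xb x.b f)⁻¹ * z0⁻¹ * xb x.b f = x * z0⁻¹ := by
        rw [mul_assoc _ z0⁻¹, ← (Commute.inv_right (zc (xb x.b f))).eq]; group
      rw [← k, e1, mul_assoc, ← (Commute.inv_right (zc u)).eq, ← mul_assoc, h, mul_assoc]
  simpa only [k, inv_one, mul_one] using hf

theorem mulz (x y : W) : x * z0 * y = x * y * z0 := by rw [mul_assoc, ← zc, mul_assoc]

theorem BB (x : W) (hx : x ∈ B0) (y : W) (hy : y ∈ B0) : x * y = y * x ∨ x * y = y * x * z0 := by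
  have a := BE x hx
  have b := BE y hy
  set u := qq 0 x.p 0 false
  set v := qq 0 y.p 0 false
  have c1 := cE2' y hy.1 _ a
  have c2 := cE2' u rfl _ b
  have e1 : x * y = u * v * (v⁻¹ * y) * (u⁻¹ * x) := by
    calc x * y = u * ((u⁻¹ * x) * y) := by group
      _ = _ := by rw [← c1]; group
  have e2 : y * x = v * u * (v⁻¹ * y) * (u⁻¹ * x) := by
    calc y * x = v * ((v⁻¹ * y) * u) * (u⁻¹ * x) := by group
      _ = _ := by rw [← c2]; group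
  rcases commQ u (qq_mem ..) v (qq_mem ..) with k | k
  · exact Or.inl (by rw [e1, e2, k])
  · exact Or.inr (by rw [e1, e2, k, mulz, mulz])

theorem w13 (s x : W) (hx : x ∈ B0) : s * x * s⁻¹ * x⁻¹ ∈ E0 ⊓ Q0 := by
  have a := BE x hx
  have b := w13a s x.p
  set u := qq 0 x.p 0 false
  have c := allE (P := fun e => s * e * s⁻¹ * e⁻¹ ∈ Q0) (w13b s) _ a
  have c' := E0.mul_mem (nE' s _ a) (E0.inv_mem a)
  have e : s * x * s⁻¹ * x⁻¹ = s * u * s⁻¹ * u⁻¹ *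
      (u * (s * (u⁻¹ * x) * s⁻¹ * (u⁻¹ * x)⁻¹) * u⁻¹) := by group
  rw [e]
  exact ⟨E0.mul_mem b.1 (nE' u _ c'), Q0.mul_mem b.2 (nQ' u _ c)⟩

theorem w14' (x : W) (hx : x ∈ Q0) (x2 : x * x ≠ 1) (y : W) (hy : y ∈ Q0) (y2 : y * y ≠ 1)
    (h : x * y ≠ y * x) : ∃ s : W,
    (s * x * s⁻¹ * x ≠ x * (s * x * s⁻¹) ∨ s * x * s⁻¹ * y ≠ y * (s * x * s⁻¹)) ∧
      ∀ k ∈ ({x, y, x * y} : Set W), s * x * s⁻¹ ≠ k ∧ s * x * s⁻¹ ≠ k * z0 := by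
  have e1 := exists_qq' x hx
  have e2 := exists_qq' y hy
  have k := w14 x.a x.p x.r
  have z2 : ∀ a : W, a * z0 * z0 = a := fun a => by rw [mul_assoc, zz, mul_one]
  have z3 : ∀ a b : W, a * (b * z0) = a * b * z0 := fun a b => (mul_assoc _ _ _).symm
  have z4 : ∀ a b : W, a * z0 = b ↔ a = b * z0 := fun a b =>
    ⟨fun e => by rw [← e, z2], fun e => by rw [e, z2]⟩
  generalize qq x.a x.p x.r false = u at e1 k
  replace k := fun h => k h y.a y.p y.r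
  generalize qq y.a y.p y.r false = v at e2 k
  rcases e1 with rfl | rfl <;> rcases e2 with rfl | rfl <;>
    simp only [z3, mulz, z2, ne_eq, mul_left_inj] at x2 y2 h <;>
    obtain ⟨b, f, k1, k2⟩ := k x2 y2 h <;> refine ⟨xb b f, ?_, ?_⟩ <;>
    simp only [← mul_assoc, mulz, z2, ne_eq, mul_left_inj, z4, Set.mem_insert_iff,
      Set.mem_singleton_iff, forall_eq_or_imp, forall_eq] at k1 k2 ⊢ <;>
    first | exact k1 | (obtain ⟨a1, a2, a3, a4, a5, a6⟩ := k2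
                        refine ⟨⟨?_, ?_⟩, ⟨?_, ?_⟩, ?_, ?_⟩ <;> assumption)

end W

open W in
theorem exists_u5 {ι : W →* G} (hι : Function.Injective ι) (hS : SylIn 2 ι.range ⊤) :
    U5 ι.range (Q0.map ι) (R0.map ι) (E0.map ι) (B0.map ι) (ι '' D0) (ι z0) (ι t0) := by
  have m : ∀ {K : Subgroup W} {x : W}, ι x ∈ K.map ι ↔ x ∈ K := mem_map_iff_mem hι
  have md : ∀ {x : W}, ι x ∈ ι '' D0 ↔ x ∈ D0 := hι.mem_set_image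
  have q : ∀ {x y : W}, ι x = ι y ↔ x = y := hι.eq_iff
  have o : ∀ {x : W}, ι x = 1 ↔ x = 1 := map_eq_one_iff ι hι
  have cz : ∀ x : W, (∀ y ∈ Q0.map ι, ι x * y = y * ι x) → x = 1 ∨ x = z0 := fun x h => by
    have k : ∀ a p r, x * qq a p r false = qq a p r false * x := fun a p r => by
      simpa only [← map_mul, q] using h _ (m.2 (qq_mem a p r false))
    exact cQ' x (k ..) (k ..) (k ..) (k ..) (k ..) (k ..)
  refine ⟨hS, ⟨m.2 zQ, fun e => z_ne (o.1 e), ?_, ?_, ?_, ?_, ?_, ?_⟩, map_le_range _ _,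
    map_le_range _ _, map_mono fun x hx => hx.1, map_mono fun x hx => ⟨hx.1, hx.2.1⟩,
    (card_map_of_injective hι).trans card_Q, (card_map_of_injective hι).trans card_R,
    (card_map_of_injective hι).trans card_B, (card_map_of_injective hι).trans card_E,
    ?_, ?_, ?_, ?_, ?_, ?_, ?_, ?_, ?_, ?_, ?_, ?_, ?_, ?_, ?_, ?_, ?_, md.2 zD, md.2 tD,
    fun e => tz (q.1 e), ?_, ?_, ?_, ?_, ?_, ?_, ?_, ?_, ?_, ?_, ?_, ?_, ?_, ?_⟩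
  · rw [← map_mul, zz, map_one]
  · rintro _ ⟨x, -, rfl⟩; rw [← map_mul, zc, map_mul]
  · rintro _ ⟨x, -, rfl⟩ h; simpa only [o, q] using cz x h
  · rintro _ ⟨x, hx, rfl⟩ _ ⟨y, hy, rfl⟩; simpa only [← map_mul, q] using commQ x hx y hy
  · rintro _ ⟨x, hx, rfl⟩; simpa only [← map_mul, q, o] using sqQ x hx
  · exact ⟨_, m.2 (qq_mem 1 0 0 false), _, m.2 (qq_mem 0 0 w false), by
      simpa only [← map_mul, ne_eq, q] using nab⟩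
  · rintro _ ⟨x, rfl⟩; rw [← map_mul, zc, map_mul]
  · rintro _ ⟨x, rfl⟩ h; simpa only [o, q] using cz x h
  · rintro _ ⟨s, rfl⟩ _ ⟨x, hx, rfl⟩; simpa only [← map_mul, ← map_inv, m] using nQ' s x hx
  · rintro _ ⟨s, rfl⟩ _ ⟨x, hx, rfl⟩; simpa only [← map_mul, ← map_inv, m] using nE' s x hx
  · rintro _ ⟨x, rfl⟩; simpa only [← map_mul, o, m] using sq1 x
  · rintro _ ⟨x, rfl⟩; simpa only [← map_mul, o, q, m] using sq2 x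
  · rintro _ ⟨x, rfl⟩; simpa only [← map_mul, q, m] using cE1 x
  · rintro _ ⟨x, hx, rfl⟩ _ ⟨y, hy, rfl⟩; simpa only [← map_mul, q] using cE2' x hx y hy
  · rintro _ ⟨x, hx, rfl⟩; simpa only [← map_mul, o, m] using invR x hx
  · rintro _ ⟨x, hx, rfl⟩; simpa only [← map_mul, o] using sqE x hx
  · rintro _ ⟨x, hx, rfl⟩; simpa only [← map_mul, o, md] using sqR x hx
  · rintro _ ⟨x, hx, rfl⟩; simpa only [← map_mul, o, q, m] using sqB x hx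
  · rintro _ ⟨x, hx, rfl⟩; simpa only [← map_mul, o, q] using sqB' x hx
  · exact ⟨_, m.2 (show qq 0 1 0 false ∈ R0 from rfl), by rw [← map_mul, zsq]⟩
  · rintro _ ⟨u, rfl⟩ h1 h2 _ ⟨x, rfl⟩
    simp only [← map_mul, o, q, m] at h1 h2 ⊢
    exact W.cU u h1 h2 x
  · rintro _ ⟨u, rfl⟩ h1 h2
    simp only [← map_mul, o, q, m] at h1 h2
    obtain ⟨e, he⟩ := exists_qq u ((sq1 u h1).resolve_right h2)
    obtain ⟨a, p, r, k1, k2, k3, k4⟩ := w10 u.a u.p u.r e (he ▸ h1) (he ▸ h2)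
    rw [← he] at k2 k3
    refine ⟨_, ⟨ee u.a false false, rfl⟩, _, ⟨qq a p r false, rfl⟩, ?_⟩
    simp only [← map_mul, o, q]
    exact ⟨(ee_sq _).1, k1, k3, k2, k4⟩
  · exact ⟨_, ⟨qq 1 0 0 false, rfl⟩, by simpa only [← map_mul, o, m] using uu⟩
  · rintro _ ⟨x, hx, rfl⟩; exact m.2 hx.1
  · rintro _ ⟨x, hx, rfl⟩ e; exact hx.2.1 (o.1 e)
  · rintro _ ⟨x, hx, rfl⟩; simpa only [q, m] using DQ x hx
  · rintro _ ⟨x, hx, rfl⟩ h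
    obtain ⟨⟨a, k1⟩, k2⟩ := Dconj x hx fun e => h (q.2 e)
    exact ⟨⟨_, m.2 (qq_mem a 0 0 false), by simpa only [← map_mul, ← map_inv, q] using k1⟩, by
      simpa only [← map_mul, m] using k2⟩
  · rintro _ ⟨x, hx, rfl⟩
    rcases allE (P := fun x => x = 1 ∨ x ∈ D0 ∨ ∃ r' e' f', ee r' e' f' ∈ D0 ∧ ee r' e' f' * x ∈ D0)
      Egen x hx with k | k | ⟨r, e, f, k1, k2⟩
    exacts [Or.inl (o.2 k), Or.inr (Or.inl (md.2 k)),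
      Or.inr (Or.inr ⟨_, md.2 k1, by simpa only [← map_mul, md] using k2⟩)]
  · rintro _ ⟨x, hx, rfl⟩ h1 _ ⟨d, hd, rfl⟩ h2 _ ⟨d', hd', rfl⟩ h3
    simp only [← map_mul, ne_eq, o, q, md] at h1 h2 h3 ⊢
    obtain ⟨a1, a2, a3⟩ := exists_ee x hx
    obtain ⟨b1, b2, b3⟩ := exists_ee d hd.1
    obtain ⟨c1, c2, c3⟩ := exists_ee d' hd'.1
    have := Duniq x.r a1 a2 (a3 ▸ h1) d.r b1 b2 (b3 ▸ hd) (a3 ▸ b3 ▸ h2) d'.r c1 c2 (c3 ▸ hd')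
      (a3 ▸ c3 ▸ h3)
    rwa [← a3, ← b3, ← c3] at this
  · rintro _ ⟨x, hx, rfl⟩; simpa only [← map_mul, ne_eq, o, q, m, md] using EQ x hx
  · rintro _ ⟨x, hx, rfl⟩ _ ⟨y, hy, rfl⟩; simpa only [← map_mul, q] using BB x hx y hy
  · rintro _ ⟨s, rfl⟩ _ ⟨x, hx, rfl⟩
    simpa only [← map_mul, ← map_inv, mem_inf, m] using w13 s x hx
  · rintro _ ⟨x, hx, rfl⟩ h1 _ ⟨y, hy, rfl⟩ h2 h3
    simp only [← map_mul, ne_eq, o, q] at h1 h2 h3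
    obtain ⟨s, k⟩ := w14' x hx h1 y hy h2 h3
    refine ⟨_, ⟨s, rfl⟩, ?_⟩
    simpa only [← map_mul, ← map_inv, ne_eq, q, Set.mem_insert_iff, Set.mem_singleton_iff,
      forall_eq_or_imp, forall_eq] using k
  · rintro _ ⟨x, rfl⟩; simpa only [← map_mul, m] using w15 x
  · rintro _ ⟨x, rfl⟩ h
    have k : ∀ r, x * ee r false false = ee r false false * x := fun r => by
      simpa only [← map_mul, q] using h _ ⟨m.2 (ee_mem r false false), m.2 (ee_sq r).2⟩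
    exact m.2 (cE0 x (k _) (k _))
  · refine ⟨fun g => (Function.invFun ι g).r, ?_⟩
    rintro _ ⟨x, hx, rfl⟩ h1 _ ⟨y, hy, rfl⟩ h2 h3
    simp only [Function.leftInverse_invFun hι _, ne_eq, q] at h1 h2 h3 ⊢
    obtain ⟨a1, a2, a3⟩ := exists_ee x hx.1
    obtain ⟨b1, b2, b3⟩ := exists_ee y hy.1
    rw [← h3] at b3
    rw [a3, b3]
    exact W.k1 _ _ _ _ _ (a3 ▸ ⟨hx, h1⟩) (b3 ▸ ⟨hy, h2⟩)
  · refine ⟨fun g => (Function.invFun ι g).p, ?_⟩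
    rintro _ ⟨⟨x, hx, rfl⟩, x2⟩ _ ⟨⟨y, hy, rfl⟩, y2⟩
    simp only [Function.leftInverse_invFun hι _, ← map_inv, ← map_mul, m]
    obtain ⟨a1, a3⟩ := exists_qq x hx
    obtain ⟨b1, b3⟩ := exists_qq y hy
    rw [show x.a = 0 from m.1 x2] at a3
    rw [show y.a = 0 from m.1 y2] at b3
    have := W.k2 x.p x.r a1 y.p y.r b1
    rwa [← a3, ← b3] at this

end CL.U52
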