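import Mathlib
import Cfsg.Agent.SYL.U52.Str
import Cfsg.Agent.INV.ZStarCor

/-!
Fusion in a group with Sylow 2-subgroup of type `U₅(2)`.
-/

set_option autoImplicit false

namespace CL.U52

open CL.MSS CL.LX Subgroup

variable {G : Type*} [Group G] {S Q R E B : Subgroup G} {D : Set G} {z t : G}

/-- centralizer of an element -/
abbrev Cn (z : G) : Subgroup G := centralizer ({z} : Set G)

theorem mem_Cn {z x : G} : x ∈ Cn z ↔ x * z = z * x := mem_centralizer_singleton_iff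

theorem le_or_le {A B E : Subgroup G} (h : ∀ x ∈ E, x ∈ A ∨ x ∈ B) : E ≤ A ∨ E ≤ B := by
  by_contra hc
  push Not at hc
  obtain ⟨a, ha, ha'⟩ := SetLike.not_le_iff_exists.1 hc.1
  obtain ⟨b, hb, hb'⟩ := SetLike.not_le_iff_exists.1 hc.2
  rcases h _ (E.mul_mem ha hb) with k | k
  · exact ha' (by simpa using A.mul_mem k (A.inv_mem ((h b hb).resolve_right hb')))
  · exact hb' (by simpa using B.mul_mem (B.inv_mem ((h a ha).resolve_left ha')) k)

theorem cj_sq {g x y : G} (h : x * x = y) : g * x * g⁻¹ * (g * x * g⁻¹) = g * y * g⁻¹ := by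
  rw [conj_mul, h]

theorem cj_comm {g x y : G} (h : x * y = y * x) :
    g * x * g⁻¹ * (g * y * g⁻¹) = g * y * g⁻¹ * (g * x * g⁻¹) := by rw [conj_mul, conj_mul, h]

theorem cj_fix {g z : G} (h : g ∈ Cn z) : g * z * g⁻¹ = z := by rw [mem_Cn.1 h, mul_inv_cancel_right]

theorem isPGroup_zp {x : G} (h : x * x = 1) : IsPGroup 2 (zpowers x) :=
  isPGroup_zpowers (k := 1) (by rw [pow_one, pow_two, h])

namespace U5

variable (h : U5 S Q R E B D z t)
include h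

theorem ES' : E ≤ S := h.EB.trans (h.BR.trans h.RS)
theorem ER : E ≤ R := h.EB.trans h.BR
theorem zE : z ∈ E := h.DE z h.zD
theorem tE : t ∈ E := h.DE t h.tD
theorem zS : z ∈ S := h.ES' h.zE
theorem SC : S ≤ Cn z := fun x hx => mem_Cn.2 (h.zc x hx)
theorem sylC : SylIn 2 S (Cn z) := h.syl.of_le h.SC le_top
theorem zz : z * z = 1 := h.es.z_sq
theorem two {K : Subgroup G} (hK : K ≤ S) : IsPGroup 2 K := h.syl.pgroup.to_le hK
theorem tQ : t ∉ Q := fun k => h.tz (h.DQ t h.tD k)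
theorem commE {x y : G} (hx : x ∈ E) (hy : y ∈ E) : x * y = y * x := h.cE2 x (h.ER hx) y hy

theorem SN_E : S ≤ normalizer (E : Set G) := le_normalizer_iff.2 h.nE
theorem SN_Q : S ≤ normalizer (Q : Set G) := le_normalizer_iff.2 h.nQ

variable [Finite G]

theorem R_of_E {g : G} (hE : g •ᶜ E = E) {x : G} (hx : x ∈ R) (hs : g * x * g⁻¹ ∈ S) :
    g * x * g⁻¹ ∈ R := by
  obtain ⟨e, he, k⟩ := mem_cj'.1 (hE.ge h.tE)
  exact h.cE1 _ hs (k ▸ cj_comm (h.cE2 x hx e he))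

theorem weakR {g : G} (hg : g •ᶜ R ≤ S) : g •ᶜ R = R := by
  have hE : g •ᶜ E ≤ E := cj_le_iff_forall.2 fun e he => by
    by_contra hc
    have h1 : g •ᶜ R ≤ Q := cj_le_iff_forall.2 fun x hx =>
      h.cU _ (hg (conj_mem_cj (h.ER he))) (by rw [cj_sq (h.sqE e he)]; group) hc _
        (hg (conj_mem_cj hx)) (cj_comm (h.cE2 x hx e he))
    have := card_le_of_le h1
    rw [card_cj, h.cardR, h.cardQ] at this
    omega
  exact cj_eq_of_le (cj_le_iff_forall.2 fun x hx =>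
    h.R_of_E (cj_eq_of_le hE) hx (hg (conj_mem_cj hx)))

theorem extremal {x : G} (hx : IsConj z x) :
    ∃ g : G, g * x * g⁻¹ = z ∧ ∀ y ∈ S, y * x = x * y → g * y * g⁻¹ ∈ S := by
  obtain ⟨k, rfl⟩ := isConj_iff.1 hx
  obtain ⟨c, hc, e⟩ := h.sylC.exists_conj_le (R := k⁻¹ •ᶜ (S ⊓ Cn (k * z * k⁻¹)))
    (isPGroup_cj _ (h.two inf_le_left)) (by
      rw [← le_cj_iff, cj_centralizer_singleton]; exact inf_le_right)
  refine ⟨c * k⁻¹, ?_, fun y hy hc' => ?_⟩
  · rw [← cj_fix hc]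
    conv_lhs => rw [cj_fix hc]
    group
  · rw [← cj_mul] at e
    exact e (conj_mem_cj ⟨hy, mem_Cn.2 hc'⟩)

theorem D_of_E {x : G} (hx : IsConj z x) (hE : x ∈ E) : x ∈ D := by
  obtain ⟨g, e, k⟩ := h.extremal hx
  have h1 := h.weakR (g := g) (cj_le_iff_forall.2 fun y hy => k y (h.RS hy) (h.cE2 y hy x hE))
  obtain ⟨w, hw, w2⟩ := h.zsq
  obtain ⟨y, hy, rfl⟩ := mem_cj'.1 (h1.ge hw)
  have h2 : y * y = x := by
    rw [conj_mul, ← e] at w2
    simpa using w2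
  rcases h.sqR y hy with a | a
  · rw [h2] at a
    exact absurd (by rw [← e, a]; group) h.es.z_ne
  · exact h2 ▸ a

theorem D_of_conj {x : G} (hx : IsConj z x) (hS : x ∈ S) : x ∈ D := by
  by_cases hE : x ∈ E
  · exact h.D_of_E hx hE
  exfalso
  obtain ⟨g, e, k⟩ := h.extremal hx
  have x2 : x * x = 1 := by
    obtain ⟨c, rfl⟩ := isConj_iff.1 hx
    rw [cj_sq h.zz]; group
  obtain ⟨a, ha, b, hb, a2, b2, a3, b3, ab⟩ := h.w10 x hS x2 hE
  have ha' := k a ha a3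
  have hb' := k b hb b3
  have e1 : g * a * g⁻¹ * (g * b * g⁻¹) = g * b * g⁻¹ * (g * a * g⁻¹) * (g * z * g⁻¹) := by
    rw [conj_mul, conj_mul, conj_mul, ab]
  have a2' : g * a * g⁻¹ * (g * a * g⁻¹) = 1 := by rw [cj_sq a2]; group
  have b2' : g * b * g⁻¹ * (g * b * g⁻¹) = 1 := by rw [cj_sq b2]; group
  have n1 : g * z * g⁻¹ ≠ 1 := fun e => h.es.z_ne (by simpa using e)
  have n2 : g * z * g⁻¹ ≠ z := fun e' => hE (by
    rw [← e'] at e
    rw [show x = z by simpa using e]; exact h.zE)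
  have cj : IsConj z (g * z * g⁻¹) := isConj_iff.2 ⟨g, rfl⟩
  generalize g * a * g⁻¹ = a' at *
  generalize g * b * g⁻¹ = b' at *
  generalize g * z * g⁻¹ = z' at *
  have e2 : z' = a'⁻¹ * (b'⁻¹ * a' * b'⁻¹⁻¹) := by
    rw [inv_inv, mul_assoc b'⁻¹, e1]; group
  have e3 : z' = a'⁻¹ * b'⁻¹ * a'⁻¹⁻¹ * b' := by rw [e2]; group
  have l : ∀ K : Subgroup G, (∀ s ∈ S, ∀ x ∈ K, s * x * s⁻¹ ∈ K) → a' ∈ K ∨ b' ∈ K → z' ∈ K := by
    rintro K hK (k | k)
    · exact e2 ▸ K.mul_mem (K.inv_mem k) (hK _ (S.inv_mem hb') _ k)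
    · exact e3 ▸ K.mul_mem (hK _ (S.inv_mem ha') _ (K.inv_mem k)) k
  have fin : z' ∈ Q → z' ∈ E → False := fun k1 k2 => n2 (h.DQ _ (h.D_of_E cj k2) k1)
  rcases h.sq1 _ ha' a2' with p | p <;> rcases h.sq1 _ hb' b2' with q | q
  · rcases h.es.comm _ p _ q with r | r
    · exact n1 (by simpa [r] using e1.symm)
    · exact n2 (by simpa [r] using e1.symm)
  · exact fin (l Q h.nQ (Or.inl p)) (l E h.nE (Or.inr q))
  · exact fin (l Q h.nQ (Or.inr q)) (l E h.nE (Or.inl p))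
  · exact n1 (by simpa [h.commE p q] using e1.symm)

theorem zt [IsSimpleGroup G] (hG : ¬ IsMulCommutative G) : IsConj z t := by
  by_contra hc
  refine CL.BS.not_isolated_of_simple hG z ⟨h.es.orderOf_z, fun g hg => ?_⟩
  obtain ⟨c, hcz, e⟩ := h.sylC.exists_conj_le (R := zpowers (g * z * g⁻¹))
    (isPGroup_zp (by rw [cj_sq h.zz]; group)) (zpowers_le.2 (mem_Cn.2 hg.symm))
  have h1 : IsConj z (c * (g * z * g⁻¹) * c⁻¹) := isConj_iff.2 ⟨c * g, by group⟩
  have h2 := h.D_of_conj h1 (e (conj_mem_cj (mem_zpowers _)))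
  by_cases h3 : c * (g * z * g⁻¹) * c⁻¹ = z
  · rw [← cj_fix hcz] at h3
    have h4 : g * z * g⁻¹ = z := by
      have := (MulAut.conj c).injective (a₁ := g * z * g⁻¹) (a₂ := z) (by
        simpa only [MulAut.conj_apply, cj_fix hcz] using h3)
      exact this
    exact h4
  · obtain ⟨⟨q, -, k⟩, -⟩ := h.Dconj _ h2 h3
    exact absurd (h1.trans (isConj_iff.2 ⟨q, k⟩).symm) hc

theorem weakQ {g : G} (hc : g ∈ Cn z) (hg : g •ᶜ Q ≤ S) : g •ᶜ Q = Q := by
  rcases le_or_le (E := g •ᶜ Q) (A := Q) (B := B) (fun y hy => h.sq2 y (hg hy) (by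
    obtain ⟨x, hx, rfl⟩ := mem_cj'.1 hy
    rcases h.es.sq x hx with k | k
    · exact Or.inl (by rw [cj_sq k]; group)
    · exact Or.inr (by rw [cj_sq k, cj_fix hc]))) with k | k
  · exact cj_eq_of_le k
  · have := card_le_of_le k
    rw [card_cj, h.cardQ, h.cardB] at this
    omega

end U5

/-- `z` is not isolated -/
structure U6 (S Q R E B : Subgroup G) (D : Set G) (z t : G) : Prop extends U5 S Q R E B D z t where
  zt : IsConj z t

namespace U6

variable (h : U6 S Q R E B D z t)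
include h

theorem conj_of_D {d : G} (hd : d ∈ D) : IsConj z d := by
  by_cases e : d = z
  · rw [e]
  · obtain ⟨⟨q, -, k⟩, -⟩ := h.Dconj d hd e
    exact h.zt.trans (isConj_iff.2 ⟨q, k⟩)

variable [Finite G]

theorem cjD {g d : G} (hd : d ∈ D) (hs : g * d * g⁻¹ ∈ S) : g * d * g⁻¹ ∈ D :=
  h.D_of_conj ((h.conj_of_D hd).trans (isConj_iff.2 ⟨g, rfl⟩)) hs

theorem weakE {g : G} (hg : g •ᶜ E ≤ S) : g •ᶜ E = E := by
  have k : ∀ d ∈ D, g * d * g⁻¹ ∈ E := fun d hd =>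
    h.DE _ (h.cjD hd (hg (conj_mem_cj (h.DE d hd))))
  refine cj_eq_of_le (cj_le_iff_forall.2 fun e he => ?_)
  rcases h.Egen e he with rfl | a | ⟨d, a, b⟩
  · simp
  · exact k e a
  · have := E.mul_mem (E.inv_mem (k d a)) (k _ b)
    convert this using 1
    group

theorem nD {g d : G} (hg : g ∈ normalizer (E : Set G)) (hd : d ∈ D) : g * d * g⁻¹ ∈ D :=
  h.cjD hd (h.ES' ((mem_normalizer_iff.1 hg d).1 (h.DE d hd)))

/-- 2-subgroups of an overgroup of `E` -/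
theorem exists_cE {H T : Subgroup G} (hE : E ≤ H) (hT : IsPGroup 2 T) (hle : T ≤ H) :
    ∃ c ∈ H, ∃ k ∈ normalizer (E : Set G), (k * c) •ᶜ T ≤ S := by
  obtain ⟨P, hP, hEP⟩ := exists_sylIn_ge (h.two h.ES') hE
  obtain ⟨c, hc, e⟩ := hP.exists_conj_le hT hle
  obtain ⟨k, -, e2⟩ := h.syl.exists_conj_le hP.pgroup le_top
  exact ⟨c, hc, k, mem_normalizer_iff_cj.2 (h.weakE ((cj_mono k hEP).trans e2)), by
    rw [cj_mul]; exact (cj_mono k e).trans e2⟩

theorem exists_cD {H T : Subgroup G} (hE : E ≤ H) (hT : IsPGroup 2 T) (hle : T ≤ H) :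
    ∃ c ∈ H, ∀ a ∈ T, IsConj z a → c * a * c⁻¹ ∈ D := by
  obtain ⟨c, hc, k, hk, e⟩ := h.exists_cE hE hT hle
  refine ⟨c, hc, fun a ha ca => ?_⟩
  have := h.nD (inv_mem hk) (h.D_of_conj (ca.trans (isConj_iff.2 ⟨k * c, rfl⟩)) (e (conj_mem_cj ha)))
  convert this using 1
  group

theorem exists_nE {d : G} (hd : d ∈ D) : ∃ n ∈ normalizer (E : Set G), n * z * n⁻¹ = d := by
  obtain ⟨g, e⟩ := isConj_iff.1 (h.conj_of_D hd)
  obtain ⟨c, hc, k, hk, e2⟩ := h.exists_cE (H := Cn d) (T := g •ᶜ E)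
    (fun x hx => mem_Cn.2 (h.commE hx (h.DE d hd))) (isPGroup_cj _ (h.two h.ES')) (by
      rw [← e, Cn, ← cj_centralizer_singleton]; exact cj_mono g (h.ES'.trans h.SC))
  rw [← cj_mul] at e2
  refine ⟨c * g, ?_, ?_⟩
  · have := mul_mem (inv_mem hk) (mem_normalizer_iff_cj.2 (h.weakE e2))
    convert this using 1
    group
  · rw [← cj_fix hc, ← e]; group

theorem nE0 {g : G} (hc : g ∈ Cn z) (hg : g ∈ normalizer (E : Set G)) :
    g ∈ normalizer ((E ⊓ Q : Subgroup G) : Set G) := by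
  refine inv_mem_iff (x := g).1 (mem_normalizer_of_cj_le (cj_le_iff_forall.2 fun e he => ?_))
  have h1 := (mem_normalizer_iff.1 (inv_mem hg) e).1 he.1
  refine ⟨h1, by_contra fun k => ?_⟩
  refine (h.EQ e he.1).2 ?_ he.2
  rcases (h.EQ _ h1).1 k with ⟨a, b⟩ | ⟨a, b⟩
  · refine Or.inl ⟨by simpa [mul_assoc] using h.nD hg a, fun e' => b ?_⟩
    rw [e', cj_fix (inv_mem hc)]
  · refine Or.inr ⟨?_, fun e' => b (by simp [e'])⟩
    have := h.nD hg a
    rwa [← conj_mul, cj_fix hc, show g * (g⁻¹ * e * g⁻¹⁻¹) * g⁻¹ = e by group] at this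

theorem weakB {g : G} (hc : g ∈ Cn z) (hg : g •ᶜ B ≤ S) : g •ᶜ B = B ∧ g •ᶜ E = E := by
  have hE := h.weakE ((cj_mono g h.EB).trans hg)
  refine ⟨cj_eq_of_le (cj_le_iff_forall.2 fun x hx => h.sqB _
    (h.R_of_E hE (h.BR hx) (hg (conj_mem_cj hx))) ?_), hE⟩
  rcases h.sqB' x hx with k | k
  · exact Or.inl (by rw [cj_sq k]; group)
  · exact Or.inr (by rw [cj_sq k, cj_fix hc])

omit h [Finite G] in
/-- elements acting trivially on `B / N` -/
def Kr (B N : Subgroup G) : Subgroup G where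
  carrier := {n | n ∈ normalizer (B : Set G) ∧ ∀ b ∈ B, n * b * n⁻¹ * b⁻¹ ∈ N}
  one_mem' := ⟨one_mem _, fun b _ => by simp⟩
  mul_mem' := fun {m n} hm hn => ⟨mul_mem hm.1 hn.1, fun b hb => by
    have := N.mul_mem (hm.2 _ ((mem_normalizer_iff.1 hn.1 b).1 hb)) (hn.2 b hb)
    convert this using 1
    group⟩
  inv_mem' := fun {n} hn => ⟨inv_mem hn.1, fun b hb => by
    have := N.inv_mem (hn.2 _ ((mem_normalizer_iff.1 (inv_mem hn.1) b).1 hb))
    convert this using 1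
    group⟩

theorem scB {g x : G} (hc : g ∈ Cn z) (hg : g •ᶜ B ≤ S) (hx : x ∈ B) (k : g * x * g⁻¹ ∈ Q) :
    x ∈ Q := by
  obtain ⟨e1, e2⟩ := h.weakB hc hg
  have n1 := mem_normalizer_iff_cj.2 e1
  have n2 := h.nE0 hc (mem_normalizer_iff_cj.2 e2)
  have hS : SylIn 2 S (Cn z ⊓ Kr B (E ⊓ Q)) := h.syl.of_le (le_inf h.SC fun s hs =>
    ⟨le_normalizer_iff.2 (fun s hs b hb => by
      simpa using B.mul_mem (h.EB (h.w13 s hs b hb).1) hb) hs, h.w13 s hs⟩) le_top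
  obtain ⟨n, hn, y, hy, rfl⟩ := hS.frattini (x := g) (mem_normalizer_of_cj_le
    (cj_le_iff_forall.2 fun m hm => ⟨(Cn z).mul_mem ((Cn z).mul_mem hc hm.1) (inv_mem hc),
      mul_mem (mul_mem n1 hm.2.1) (inv_mem n1), fun b hb => by
        have := (mem_normalizer_iff.1 n2 _).1 (hm.2.2 _ ((mem_normalizer_iff.1 (inv_mem n1) b).1 hb))
        convert this using 1
        group⟩))
  have y1 : y ∈ Cn z := by simpa using (Cn z).mul_mem ((Cn z).inv_mem hn.1) hc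
  have y2 : y ∈ normalizer (B : Set G) := by simpa using mul_mem (inv_mem hn.2.1) n1
  have y3 := h.weakQ y1 (cj_le_of_mem_normalizer h.QS hy)
  have k2 := (hn.2.2 _ ((mem_normalizer_iff.1 y2 x).1 hx)).2
  rw [← conj_mem_cj_iff (g := y), y3]
  have := Q.mul_mem (Q.inv_mem k2) k
  convert this using 1
  group

omit h [Finite G] in
/-- stabilizer of a coset of `⟨z⟩` in `C(z)` -/
def St (z v : G) (hz : z * z = 1) : Subgroup G where
  carrier := {c | c ∈ Cn z ∧ (c * v * c⁻¹ = v ∨ c * v * c⁻¹ = v * z)}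
  one_mem' := ⟨one_mem _, Or.inl (by simp)⟩
  mul_mem' := fun {a b} ha hb => ⟨mul_mem ha.1 hb.1, by
    rw [show a * b * v * (a * b)⁻¹ = a * (b * v * b⁻¹) * a⁻¹ by group]
    rcases hb.2 with k | k <;> rw [k]
    · exact ha.2
    · rw [← conj_mul, cj_fix ha.1]
      rcases ha.2 with l | l <;> rw [l]
      · exact Or.inr rfl
      · exact Or.inl (by rw [mul_assoc, hz, mul_one])⟩
  inv_mem' := fun {a} ha => ⟨inv_mem ha.1, by
    rcases ha.2 with k | k
    · exact Or.inl (by conv_lhs => rw [← k]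
                       group)
    · refine Or.inr ?_
      have : v = a * (v * z) * a⁻¹ := by rw [← conj_mul, cj_fix ha.1, k, mul_assoc, hz, mul_one]
      conv_lhs => rw [this]
      group⟩

omit h [Finite G] in
theorem mem_St {z v c : G} {hz : z * z = 1} (h1 : c ∈ Cn z) (h2 : c * v = v * c ∨ c * v = v * c * z) :
    c ∈ St z v hz := ⟨h1, h2.imp (fun k => by rw [k, mul_inv_cancel_right]) fun k => by
      rw [k, mul_assoc v, mem_Cn.1 h1]; group⟩

/-- `Q` is strongly closed in `S` with respect to `C(z)` -/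
theorem scQ {g x : G} (hc : g ∈ Cn z) (hx : x ∈ S) (k : g * x * g⁻¹ ∈ Q) : x ∈ Q := by
  refine (h.sq2 x hx ?_).elim id fun hB => ?_
  · rcases h.es.sq _ k with l | l <;> rw [conj_mul] at l
    · exact Or.inl (by simpa using l)
    · exact Or.inr (by simpa using l.trans (cj_fix hc).symm)
  obtain ⟨P, hP, hQP⟩ := exists_sylIn_ge (H := St z (g * x * g⁻¹) h.zz) (h.two h.QS)
    fun y hy => mem_St (h.SC (h.QS hy)) (h.es.comm y hy _ k)
  obtain ⟨c, hc', e⟩ := hP.exists_conj_le (R := g •ᶜ B) (isPGroup_cj _ (h.two (h.BR.trans h.RS)))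
    (cj_le_iff_forall.2 fun b hb => mem_St
      (mul_mem (mul_mem hc (h.SC (h.RS (h.BR hb)))) (inv_mem hc)) ((h.BB b hb x hB).imp cj_comm
        fun l => by rw [conj_mul, conj_mul, l, ← conj_mul, cj_fix hc]))
  obtain ⟨m, hm, e2⟩ := h.sylC.exists_conj_le hP.pgroup (hP.le.trans fun y hy => hy.1)
  have e3 := h.weakQ hm ((cj_mono m hQP).trans e2)
  refine h.scB (g := m * c * g) (mul_mem (mul_mem hm hc'.1) hc)
    (by rw [cj_mul, cj_mul]; exact (cj_mono m e).trans e2) hB ?_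
  rw [show m * c * g * x * (m * c * g)⁻¹ = m * (c * (g * x * g⁻¹) * c⁻¹) * m⁻¹ by group, ← e3]
  refine conj_mem_cj ?_
  rcases hc'.2 with l | l <;> rw [l]
  exacts [k, Q.mul_mem k h.es.z_mem]

end U6

end CL.U52
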