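import Mathlib
import Cfsg.Agent.REC.Basic
import Cfsg.Agent.SIG.Quasisimple
import Cfsg.Agent.SOLV.MinNormal
import Cfsg.Agent.SOLV.OddOrderCor
import Cfsg.Agent.CHAR.Burnside
import Cfsg.Agent.TECH.SylIn
import Cfsg.Agent.TECH.Amb
import Cfsg.Agent.SPOR.ES2

/-!
Solvability criteria.
-/

set_option autoImplicit false

namespace CL.U52

open CL.MSS Subgroup Cfsg
open scoped commutatorElement

variable {G : Type*} [Group G]

theorem solv_of_perfect [Finite G] {H : Subgroup G} (h : ∀ P ≤ H, ⁅P, P⁆ = P → P = ⊥) :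
    Group.IsSolvable H := by
  obtain ⟨_, ⟨n, rfl⟩, k⟩ := WellFounded.has_min (wellFounded_lt (α := Subgroup H))
    (Set.range (derivedSeries H)) ⟨_, 0, rfl⟩
  have e := (commutator_le_left _ _).lt_or_eq.resolve_left (k _ ⟨n + 1, rfl⟩)
  exact ⟨n, (map_eq_bot_iff_of_injective _ H.subtype_injective).1
    (h _ (map_subtype_le _) (by rw [← map_commutator, e]))⟩

theorem perf_fix {P : Subgroup G} (hP : ⁅P, P⁆ = P) {A : Set G} {β : Type*} [Finite β]
    (hβ : Nat.card β ≤ 4) (κ : G → β) (hA : ∀ p ∈ P, ∀ x ∈ A, p * x * p⁻¹ ∈ A)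
    (hκ : ∀ p ∈ P, ∀ x ∈ A, ∀ y ∈ A, κ x = κ y → κ (p * x * p⁻¹) = κ (p * y * p⁻¹)) {p x : G}
    (hp : p ∈ P) (hx : x ∈ A) : κ (p * x * p⁻¹) = κ x := by
  let Ω := {b : β // ∃ x ∈ A, κ x = b}
  let f : P → Ω → Ω := fun p b =>
    ⟨κ (p * b.2.choose * (p : G)⁻¹), _, hA p p.2 _ b.2.choose_spec.1, rfl⟩
  have k : ∀ (p : P) (b : Ω), ∀ x ∈ A, κ x = b.1 → (f p b).1 = κ (p * x * (p : G)⁻¹) :=
    fun p b x hx e => hκ p p.2 _ b.2.choose_spec.1 x hx (b.2.choose_spec.2.trans e.symm)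
  let : MulAction P Ω :=
    { smul := f
      one_smul := fun b => Subtype.ext (by
        obtain ⟨x, hx, e⟩ := b.2
        exact (k 1 b x hx e).trans (by simpa using e))
      mul_smul := fun p q b => Subtype.ext (by
        obtain ⟨x, hx, e⟩ := b.2
        refine (k (p * q) b x hx e).trans ((k p (f q b) _ (hA q q.2 x hx) (k q b x hx e).symm).trans
          ?_).symm
        congr 1
        simp only [coe_mul]
        group) }
  have hs : Group.IsSolvable (Equiv.Perm Ω) := CL.Char.isSolvable_of_card_dvd_pow_mul_pow (p := 2)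
    (q := 3) (a := 3) (b := 1) Nat.prime_two Nat.prime_three (by
      rw [Nat.card_perm]
      exact Nat.factorial_dvd_factorial (n := 4)
        ((Nat.card_le_card_of_injective _ Subtype.val_injective).trans hβ))
  have : Group.IsPerfect P := isPerfect_iff.mpr hP
  have e := CL.Comp.eq_bot_of_perfect_of_isSolvable (K := (⊤ : Subgroup P).map (MulAction.toPermHom P Ω))
    (by rw [← map_commutator, ← _root_.commutator_def, Group.IsPerfect.commutator_eq_top])
    inferInstance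
  have e2 : MulAction.toPermHom P Ω ⟨p, hp⟩ = 1 := mem_bot.1 (e ▸ mem_map_of_mem _ (mem_top _))
  exact (k ⟨p, hp⟩ ⟨κ x, x, hx, rfl⟩ x hx rfl).symm.trans
    (congrArg Subtype.val (Equiv.congr_fun e2 ⟨κ x, x, hx, rfl⟩))

theorem perf_comm {P A : Subgroup G} (hP : ⁅P, P⁆ = P) (h : ⁅⁅A, P⁆, P⁆ = ⊥) : ⁅A, P⁆ = ⊥ := by
  have := commutator_commutator_eq_bot_of_rotate (H₁ := P) (H₂ := P) (H₃ := A)
    (by rwa [commutator_comm P A]) h
  rwa [hP, commutator_comm] at this

/-- solvability through the `Z*`-theorem -/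
theorem zs [Finite G] {H K : Subgroup G} (hn : H ≤ normalizer (K : Set G)) (hK : Group.IsSolvable K)
    {t : G} (ht : t ∈ H) (t1 : t ∉ K) (t2 : t * t ∈ K)
    (hi : ∀ c ∈ H, ⁅t, c * t * c⁻¹⁆ ∈ K → t⁻¹ * (c * t * c⁻¹) ∈ K)
    (hs : ∀ P ≤ H, ⁅P, P⁆ = P → (∀ c ∈ P, t⁻¹ * (c * t * c⁻¹) ∈ K) → P = ⊥) :
    Group.IsSolvable H := by
  have : (K.subgroupOf H).Normal := normal_subgroupOf_of_le_normalizer hn
  let π := QuotientGroup.mk' (K.subgroupOf H)
  have k : ∀ x : H, π x = 1 ↔ (x : G) ∈ K := fun x => QuotientGroup.eq_one_iff x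
  have k2 : ∀ c : H, π c * π ⟨t, ht⟩ * (π c)⁻¹ = π ⟨t, ht⟩ ↔ t⁻¹ * (c * t * (c : G)⁻¹) ∈ K := fun c => by
    rw [eq_comm, ← inv_mul_eq_one, ← map_inv, ← map_inv, ← map_mul, ← map_mul, ← map_mul, k]; rfl
  have iso : IsIsolatedInvolution (π ⟨t, ht⟩) := ⟨orderOf_eq_prime (by
    rw [pow_two, ← map_mul, k]; exact t2) fun e => t1 ((k _).1 e), fun g hg => by
      obtain ⟨c, rfl⟩ := QuotientGroup.mk'_surjective _ g
      refine (k2 c).2 (hi c c.2 ((k ⁅(⟨t, ht⟩ : H), c * ⟨t, ht⟩ * c⁻¹⁆).1 ?_))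
      rw [map_commutatorElement, map_mul, map_mul, map_inv]
      exact commutatorElement_eq_one_iff_commute.2 hg⟩
  have s1 : Group.IsSolvable (((centralizer {π ⟨t, ht⟩}).comap π).map H.subtype) :=
    solv_of_perfect fun P hP e => hs P (hP.trans (map_subtype_le _)) e fun c hc => by
      obtain ⟨c, h1, rfl⟩ := hP hc
      exact (k2 c).1 (by rw [mem_centralizer_singleton_iff.1 h1, mul_inv_cancel_right])
  have s2 := isSolvable_map_subtype_iff.1 s1
  have s3 := isSolvable_map ((centralizer {π ⟨t, ht⟩}).comap π) π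
  rw [map_comap_eq_self_of_surjective (QuotientGroup.mk'_surjective _)] at s3
  have s4 := isSolvable_sup_of_normal s3 (isSolvable_of_odd (oddCore _) CL.Rec.odd_card_oddCore)
  rw [CL.Rec.cent_sup_core_of_isolated iso] at s4
  have s5 := isSolvable_comap π ⊤ s4 (by
    rw [QuotientGroup.ker_mk']; exact isSolvable_subgroupOf hK H)
  rw [comap_top] at s5
  exact Group.isSolvable_of_surjective (f := (⊤ : Subgroup H).subtype) fun x => ⟨⟨x, mem_top x⟩, rfl⟩

theorem isPGroup_dih {a b : G} (ha : a * a = 1) (hb : b * b = 1) {k : ℕ} (h : (a * b) ^ 2 ^ k = 1) :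
    IsPGroup 2 (zpowers a ⊔ zpowers (a * b) : Subgroup G) := by
  refine isPGroup_sup_of_normalizes (isPGroup_zpowers (k := 1) (by rw [pow_one, pow_two, ha]))
    (isPGroup_zpowers h) (zpowers_le.2 (mem_normalizer_iff_cj.2 ?_))
  rw [cj_zpowers, show a * (a * b) * a⁻¹ = (a * b)⁻¹ by
    rw [← mul_assoc, ha, one_mul, mul_inv_rev, inv_eq_of_mul_eq_one_right hb], zpowers_inv]

theorem mem_dih (a b : G) : b ∈ (zpowers a ⊔ zpowers (a * b) : Subgroup G) := by
  simpa using mul_mem_sup (inv_mem (mem_zpowers a)) (mem_zpowers (a * b))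

/-- in characteristic 2 type, a normal subgroup of `C(y)` with Sylow subgroup in `⟨y⟩` -/
theorem le_of_char {y : G} (hy : y * y = 1) (y1 : y ≠ 1) (h2 : IsCharacteristicTwoType G)
    {N : Subgroup G} (hle : N ≤ centralizer {y}) (hn : centralizer {y} ≤ normalizer (N : Set G))
    (h : ∀ x ∈ N, ∀ k, x ^ 2 ^ k = 1 → x = 1 ∨ x = y) {x : G} (hx : x ∈ N) : x = 1 ∨ x = y := by
  have hc := h2.2 (zpowers y) (isPGroup_zpowers (k := 1) (by rw [pow_one, pow_two, hy]))
    (by rwa [ne_eq, zpowers_eq_bot])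
  have e : normalizer (zpowers y : Set G) = centralizer {y} := by
    refine le_antisymm (fun g hg => ?_) fun g hg => mem_normalizer_iff_cj.2 (by
      rw [cj_zpowers, mem_centralizer_singleton_iff.1 hg, mul_inv_cancel_right])
    rcases (CL.LX.mem_zpowers_of_sq hy).1 ((mem_normalizer_iff.1 hg y).1 (mem_zpowers y)) with l | l
    · exact absurd (by simpa using l) y1
    · exact mem_centralizer_singleton_iff.2 (mul_inv_eq_iff_eq_mul.1 l)
  rw [e] at hc
  let c : centralizer {y} := ⟨x, hle hx⟩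
  have k : c * c ∈ pCore 2 (centralizer {y}) := hc fun p hp => Subtype.ext (by
    have a1 : c * p * c⁻¹ * p⁻¹ ∈ pCore 2 (centralizer {y}) :=
      mul_mem ((inferInstance : (pCore 2 _).Normal).conj_mem p hp c) (inv_mem hp)
    obtain ⟨k, hk⟩ := oP_pCore_isPGroup ⟨_, a1⟩
    have a2 : x * p * x⁻¹ * (p : G)⁻¹ ∈ N := by
      have := N.mul_mem hx ((mem_normalizer_iff.1 (hn p.2) _).1 (N.inv_mem hx))
      simpa only [mul_assoc] using this
    have xy := mem_centralizer_singleton_iff.1 (hle hx)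
    change p * (x * x) = x * x * p
    rcases h _ a2 k (congrArg (fun a => ((a : centralizer {y}) : G)) (congrArg Subtype.val hk)) with l | l
    · rw [mul_inv_eq_one, mul_inv_eq_iff_eq_mul] at l
      rw [mul_assoc, l, ← mul_assoc, ← mul_assoc, l]
    · rw [mul_inv_eq_iff_eq_mul, mul_inv_eq_iff_eq_mul] at l
      calc _ = y * y * p * x * x := by rw [hy]; group
        _ = y * (x * p) * x := by rw [l]; group
        _ = x * (y * p * x) := by rw [← mul_assoc, ← xy]; group
        _ = _ := by rw [← l, mul_assoc])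
  obtain ⟨k, hk⟩ := oP_pCore_isPGroup ⟨_, k⟩
  refine h x hx (k + 1) ?_
  rw [pow_succ', pow_mul, pow_two]
  exact congrArg (fun a => ((a : centralizer {y}) : G)) (congrArg Subtype.val hk)

theorem not_component [Finite G]
    (h : ∀ y : G, orderOf y = 2 → Group.IsSolvable (centralizer ({y} : Set G))) :
    ¬ IsComponentType G := fun ⟨y, hy, K, _, hK⟩ => by
  have := h y hy
  have := hK.1
  have := hK.2
  have : Nontrivial K := (QuotientGroup.mk'_surjective (center K)).nontrivial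
  exact Group.IsPerfect.not_isSolvable K inferInstance

end CL.U52
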